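import Groth.Agent.Lib.Jets.Engine
import Groth.Agent.Lib.Serre.Smooth
import Mathlib

/-!
# Affine charts of projective zero loci: Bertini in every degree and regularity of the cone
-/

set_option autoImplicit false
set_option linter.style.haveILetI false

universe u

open MvPolynomial

noncomputable section

namespace GrothLib.CIGraded

variable {k : Type u} [Field k] {n : ℕ}

/-- The affine chart `X j = 1` of the zero locus of `J`. -/
abbrev Chart (J : Ideal (MvPolynomial (Fin (n + 1)) k)) (j : Fin (n + 1)) : Type u :=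
  MvPolynomial (Fin (n + 1)) k ⧸ (J ⊔ Ideal.span {(X j - 1 : MvPolynomial (Fin (n + 1)) k)})

/-- The monomial of degree `d` given by a sequence of `d` variables. -/
def mono {d : ℕ} (t : Fin d → Fin (n + 1)) : MvPolynomial (Fin (n + 1)) k := ∏ a, X (t a)

/-- The form of degree `d` with coefficient vector `c`. -/
def form {d : ℕ} (c : (Fin d → Fin (n + 1)) → k) : MvPolynomial (Fin (n + 1)) k := ∑ t, c t • mono t

theorem form_isHomogeneous {d : ℕ} (c : (Fin d → Fin (n + 1)) → k) :
    (form c : MvPolynomial (Fin (n + 1)) k).IsHomogeneous d := by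
  refine (mem_homogeneousSubmodule _ _).mp (sum_mem fun t _ => Submodule.smul_mem _ _ ?_)
  rw [mem_homogeneousSubmodule]
  have := IsHomogeneous.prod Finset.univ (fun a => (X (t a) : MvPolynomial (Fin (n + 1)) k)) (fun _ => 1)
    fun a _ => isHomogeneous_X k (t a)
  simpa [mono] using this

theorem smooth_chart_bot [IsAlgClosed k] (j : Fin (n + 1)) :
    Algebra.Smooth k (Chart (⊥ : Ideal (MvPolynomial (Fin (n + 1)) k)) j) := by
  haveI : Algebra.Smooth k (MvPolynomial (Fin (n + 1)) k) := ⟨inferInstance, inferInstance⟩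
  haveI := Jets.smooth_quotient_of_not_mem_sq (k := k) (X j - 1 : MvPolynomial (Fin (n + 1)) k) fun p hp hmem => by
    obtain ⟨φ, hφ⟩ := Jets.exists_point (k := k) p
    have := Jets.deriv_eq_zero_of_mem_sq φ hφ (pderiv j) LinearMap.id hmem
    rw [map_sub, pderiv_X_self, ← C_1, pderiv_C, sub_zero, C_1] at this
    exact one_ne_zero ((map_one φ).symm.trans this)
  exact Algebra.Smooth.of_equiv (Ideal.quotientEquivAlgOfEq k (bot_sup_eq _).symm)

/-- Forms of positive degree separate 1-jets on every chart. -/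
theorem exists_jet [IsAlgClosed k] (J : Ideal (MvPolynomial (Fin (n + 1)) k)) (j : Fin (n + 1)) (d : ℕ)
    (p : Ideal (Chart J j)) (hp : p.IsMaximal) (b : Chart J j) :
    ∃ c : (Fin (d + 1) → Fin (n + 1)) → k, b - Ideal.Quotient.mk _ (form c) ∈ p ^ 2 := by
  classical
  obtain ⟨φ, hφ⟩ := Jets.exists_point (k := k) p
  let q : MvPolynomial (Fin (n + 1)) k →ₗ[k] Chart J j := (Ideal.Quotient.mkₐ k _).toLinearMap
  let V : Submodule k (Chart J j) :=
    Submodule.span k (Set.range fun t : Fin (d + 1) → Fin (n + 1) => q (mono t)) ⊔ (p ^ 2).restrictScalars k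
  suffices hV : b ∈ V by
    obtain ⟨v, hv, w, hw, rfl⟩ := Submodule.mem_sup.mp hV
    obtain ⟨c, rfl⟩ := Submodule.mem_span_range_iff_exists_fun k |>.mp hv
    refine ⟨c, ?_⟩
    have : (Ideal.Quotient.mk _ (form c) : Chart J j) = ∑ t, c t • q (mono t) := by
      show q (form c) = _
      rw [form, map_sum]; simp only [map_smul]
    rw [this, add_sub_cancel_left]
    exact hw
  have hXj : (Ideal.Quotient.mk _ (X j) : Chart J j) = 1 := by
    rw [← map_one (Ideal.Quotient.mk _), Ideal.Quotient.eq]
    exact Submodule.mem_sup_right (Ideal.mem_span_singleton_self _)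
  have hconst : ∀ i, (Ideal.Quotient.mk _ (X i) : Chart J j) ∈ V := fun i => by
    refine Submodule.mem_sup_left (Submodule.subset_span ⟨Fin.cons i fun _ => j, ?_⟩)
    show Ideal.Quotient.mk _ (∏ a, X (Fin.cons (α := fun _ => Fin (n + 1)) i (fun _ => j) a)) = _
    rw [Fin.prod_univ_succ]
    simp [hXj]
  have hone : (1 : Chart J j) ∈ V := hXj ▸ hconst j
  obtain ⟨s, rfl⟩ := Ideal.Quotient.mk_surjective b
  induction s using MvPolynomial.induction_on with
  | C a =>
    show q (C a) ∈ V
    rw [← mul_one (C a), C_mul', map_smul]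
    exact V.smul_mem a (by show Ideal.Quotient.mk _ 1 ∈ V; rw [map_one]; exact hone)
  | add s t hs ht => rw [map_add]; exact V.add_mem hs ht
  | mul_X s i hs =>
    rw [map_mul]
    set x := (Ideal.Quotient.mk _ s : Chart J j)
    set y := (Ideal.Quotient.mk _ (X i) : Chart J j)
    have e : x * y = φ y • x + φ x • y - (φ x * φ y) • (1 : Chart J j) +
        (x - algebraMap k _ (φ x)) * (y - algebraMap k _ (φ y)) := by
      simp only [Algebra.smul_def, map_mul]
      ring
    have hm : ∀ z : Chart J j, z - algebraMap k _ (φ z) ∈ p := fun z => by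
      rw [← hφ, RingHom.mem_ker]
      show φ (z - algebraMap k _ (φ z)) = 0
      rw [map_sub, AlgHom.commutes]
      exact sub_self _
    rw [e]
    refine V.add_mem (V.sub_mem (V.add_mem (V.smul_mem _ hs) (V.smul_mem _ (hconst i))) (V.smul_mem _ hone))
      (Submodule.mem_sup_right ?_)
    show _ ∈ p ^ 2
    rw [pow_two]
    exact Ideal.mul_mem_mul (hm x) (hm y)

/-- A general form of positive degree cuts a smooth chart in a smooth subscheme. -/
theorem exists_poly_smooth_chart [IsAlgClosed k] (J : Ideal (MvPolynomial (Fin (n + 1)) k)) (j : Fin (n + 1))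
    (d : ℕ) [Algebra.Smooth k (Chart J j)] :
    ∃ P : MvPolynomial (Fin (d + 1) → Fin (n + 1)) k, P ≠ 0 ∧
      ∀ c, MvPolynomial.eval c P ≠ 0 → Algebra.Smooth k (Chart (J ⊔ Ideal.span {form c}) j) := by
  classical
  let e := Fintype.equivFin (Fin (d + 1) → Fin (n + 1))
  let g : Fin (Fintype.card (Fin (d + 1) → Fin (n + 1))) → Chart J j := fun i => Ideal.Quotient.mk _ (mono (e.symm i))
  have hg : ∀ c' : Fin (Fintype.card (Fin (d + 1) → Fin (n + 1))) → k,
      ∑ i, c' i • g i = Ideal.Quotient.mk _ (form fun t => c' (e t)) := fun c' => by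
    show _ = (Ideal.Quotient.mkₐ k _) (∑ t, c' (e t) • mono t)
    rw [map_sum, ← e.symm.sum_comp]
    simp [g]
  obtain ⟨P, hP0, hP⟩ := Jets.exists_poly_not_mem_sq (k := k) (0 : Chart J j) g fun p hp b => by
    obtain ⟨c, hc⟩ := exists_jet J j d p hp b
    exact ⟨fun i => c (e.symm i), by rw [hg]; simpa using hc⟩
  refine ⟨rename e.symm P, (map_ne_zero_iff _ (rename_injective _ e.symm.injective)).mpr hP0, fun c hc => ?_⟩
  rw [eval_rename] at hc
  haveI := Jets.smooth_quotient_of_not_mem_sq (k := k) (Ideal.Quotient.mk _ (form c) : Chart J j) fun p hp hmem => by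
    refine hP _ hc p hp ?_
    rw [hg, zero_add]
    simpa using hmem
  have hmap : Ideal.span {(Ideal.Quotient.mk _ (form c) : Chart J j)} = (Ideal.span {form c}).map
      (Ideal.Quotient.mkₐ k (J ⊔ Ideal.span {(X j - 1 : MvPolynomial (Fin (n + 1)) k)})) := by
    rw [Ideal.map_span, Set.image_singleton]; rfl
  let e' : (Chart J j ⧸ Ideal.span {(Ideal.Quotient.mk _ (form c) : Chart J j)}) ≃ₐ[k] Chart (J ⊔ Ideal.span {form c}) j :=
    (Ideal.quotientEquivAlgOfEq k hmap).trans
    ((DoubleQuot.quotQuotEquivQuotSupₐ k (J ⊔ Ideal.span {(X j - 1 : MvPolynomial (Fin (n + 1)) k)}) (Ideal.span {form c})).trans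
      (Ideal.quotientEquivAlgOfEq k (sup_right_comm _ _ _)))
  exact Algebra.Smooth.of_equiv (A := Chart J j ⧸ Ideal.span {(Ideal.Quotient.mk _ (form c) : Chart J j)}) e'

theorem aeval_smul_homogeneous {R : Type*} [CommRing R] [Algebra k R] {F : MvPolynomial (Fin (n + 1)) k} {d : ℕ}
    (hF : F.IsHomogeneous d) (y : Fin (n + 1) → R) (t : R) :
    aeval (fun i => y i * t) F = t ^ d * aeval y F := by
  conv_lhs => rw [F.as_sum]
  conv_rhs => rw [F.as_sum]
  rw [map_sum, map_sum, Finset.mul_sum]
  refine Finset.sum_congr rfl fun e he => ?_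
  rw [aeval_monomial, aeval_monomial, Finsupp.prod, Finsupp.prod,
    Finset.prod_congr rfl fun i _ => mul_pow (y i) t (e i), Finset.prod_mul_distrib, Finset.prod_pow_eq_pow_sum]
  have : ∑ i ∈ e.support, e i = d := by
    have := hF.degree_eq_sum_deg_support he
    exact this.symm
  rw [this]
  ring

/-- Regularity of the cone off the vertex from smoothness of the charts. -/
theorem isRegularLocalRing_of_smooth_chart {ι : Type*} (f : ι → MvPolynomial (Fin (n + 1)) k) (d : ι → ℕ)
    (hf : ∀ i, (f i).IsHomogeneous (d i)) (j : Fin (n + 1))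
    [Algebra.Smooth k (Chart (Ideal.span (Set.range f)) j)]
    (Q : Ideal (MvPolynomial (Fin (n + 1)) k ⧸ Ideal.span (Set.range f))) [Q.IsPrime]
    (hQ : Ideal.Quotient.mk (Ideal.span (Set.range f)) (X j) ∉ Q) :
    IsRegularLocalRing (Localization.AtPrime Q) := by
  classical
  let J := Ideal.span (Set.range f)
  let B := Chart J j
  let L := Localization.Away (X () : MvPolynomial Unit B)
  let R := MvPolynomial (Fin (n + 1)) k ⧸ J
  let Rj := Localization.Away (Ideal.Quotient.mk J (X j) : R)
  let T : L := algebraMap (MvPolynomial Unit B) L (X ())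
  let y : Fin (n + 1) → L := fun i => algebraMap (MvPolynomial Unit B) L (C (Ideal.Quotient.mk _ (X i)))
  have hy : ∀ F, aeval y F = algebraMap (MvPolynomial Unit B) L (C (Ideal.Quotient.mk _ F)) := fun F => by
    have : (aeval y : _ →ₐ[k] L) =
        ((IsScalarTower.toAlgHom k (MvPolynomial Unit B) L).comp (IsScalarTower.toAlgHom k B (MvPolynomial Unit B))).comp
          (Ideal.Quotient.mkₐ k _) := MvPolynomial.algHom_ext fun i => by
          simp [y]
          rfl
    exact congrFun (congrArg DFunLike.coe this) F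
  let ψ₀ : MvPolynomial (Fin (n + 1)) k →ₐ[k] L := aeval fun i => y i * T
  have hψ : ∀ F ∈ J, ψ₀ F = 0 := by
    intro F hF
    refine (Ideal.span_le (I := RingHom.ker ψ₀)).mpr ?_ hF
    intro w hw; obtain ⟨i, rfl⟩ := Set.mem_range.mp hw
    show ψ₀ (f i) = 0
    rw [aeval_smul_homogeneous (hf i), hy,
      (Ideal.Quotient.eq_zero_iff_mem (a := f i)).mpr (Submodule.mem_sup_left (Ideal.subset_span (Set.mem_range_self i))),
      map_zero, map_zero, mul_zero]
  let ψ₁ : R →ₐ[k] L := Ideal.Quotient.liftₐ J ψ₀ hψ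
  have hyj : y j = 1 := by
    have : (Ideal.Quotient.mk _ (X j) : B) = 1 := by
      rw [← map_one (Ideal.Quotient.mk _), Ideal.Quotient.eq]
      exact Submodule.mem_sup_right (Ideal.mem_span_singleton_self _)
    simp [y, this]
  have hψj : ψ₁ (Ideal.Quotient.mk J (X j)) = T := by
    show ψ₀ (X j) = T
    simp [ψ₀, hyj]
  have hT : IsUnit T := IsLocalization.Away.algebraMap_isUnit (X () : MvPolynomial Unit B)
  let ψ : Rj →ₐ[k] L := IsLocalization.liftAlgHom (M := Submonoid.powers (Ideal.Quotient.mk J (X j) : R))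
    (f := ψ₁) (by intro w; obtain ⟨m, hm⟩ := w.2; rw [← hm]; show IsUnit (ψ₁ (_ ^ m)); rw [map_pow, hψj]; exact hT.pow m)
  have hψ' : ∀ a, ψ (algebraMap R Rj a) = ψ₁ a := fun a => IsLocalization.lift_eq _ a
  let xj : Rj := algebraMap R Rj (Ideal.Quotient.mk J (X j))
  have hxj : IsUnit xj := IsLocalization.Away.algebraMap_isUnit _
  let z : Fin (n + 1) → Rj := fun i => algebraMap R Rj (Ideal.Quotient.mk J (X i)) * Ring.inverse xj
  let χ₀ : MvPolynomial (Fin (n + 1)) k →ₐ[k] Rj := aeval z
  have hzX : ∀ F, aeval (fun i => algebraMap R Rj (Ideal.Quotient.mk J (X i))) F =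
      algebraMap R Rj (Ideal.Quotient.mk J F) := fun F => by
    have : (aeval fun i => algebraMap R Rj (Ideal.Quotient.mk J (X i))) =
        (IsScalarTower.toAlgHom k R Rj).comp (Ideal.Quotient.mkₐ k J) :=
      MvPolynomial.algHom_ext fun i => by
        simp
        rfl
    exact congrFun (congrArg DFunLike.coe this) F
  have hχ : ∀ F ∈ J ⊔ Ideal.span {(X j - 1 : MvPolynomial (Fin (n + 1)) k)}, χ₀ F = 0 := by
    intro F hF
    refine (sup_le (Ideal.span_le.mpr ?_) (Ideal.span_le.mpr ?_) : _ ≤ RingHom.ker χ₀) hF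
    · intro w hw; obtain ⟨i, rfl⟩ := Set.mem_range.mp hw
      show χ₀ (f i) = 0
      rw [aeval_smul_homogeneous (hf i), hzX,
        (Ideal.Quotient.eq_zero_iff_mem (a := f i)).mpr (Ideal.subset_span (Set.mem_range_self i)), map_zero, mul_zero]
    · rintro _ rfl
      show χ₀ (X j - 1) = 0
      simp [χ₀, z, xj, Ring.mul_inverse_cancel _ hxj]
  let χ₁ : B →ₐ[k] Rj := Ideal.Quotient.liftₐ _ χ₀ hχ
  let χ₂ : MvPolynomial Unit B →+* Rj := eval₂Hom χ₁.toRingHom fun _ => xj
  let χ : L →+* Rj := IsLocalization.Away.lift (X () : MvPolynomial Unit B) (g := χ₂) (by simpa [χ₂] using hxj)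
  have hχ' : ∀ a, χ (algebraMap _ L a) = χ₂ a := fun a => IsLocalization.Away.lift_eq _ _ a
  have hy' : ∀ i, χ (y i) = z i := fun i => by
    rw [hχ']
    show eval₂Hom _ _ (C _) = _
    rw [eval₂Hom_C]
    show χ₀ (X i) = _
    simp [χ₀]
  have hχψ : χ.comp ψ.toRingHom = RingHom.id Rj := by
    refine IsLocalization.ringHom_ext (Submonoid.powers (Ideal.Quotient.mk J (X j) : R))
      (Ideal.Quotient.ringHom_ext (MvPolynomial.ringHom_ext (fun a => ?_) fun i => ?_))
    · show χ (ψ (algebraMap R Rj (Ideal.Quotient.mk J (C a)))) = algebraMap R Rj (Ideal.Quotient.mk J (C a))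
      rw [hψ']
      show χ (ψ₀ (C a)) = _
      rw [show ψ₀ (C a) = algebraMap k L a from aeval_C _ a, IsScalarTower.algebraMap_apply k (MvPolynomial Unit B) L,
        hχ', IsScalarTower.algebraMap_apply k B (MvPolynomial Unit B), MvPolynomial.algebraMap_eq]
      show eval₂Hom _ _ (C _) = _
      rw [eval₂Hom_C]
      show χ₀ (C a) = _
      rw [← hzX]
      simp [χ₀]
    · show χ (ψ (algebraMap R Rj (Ideal.Quotient.mk J (X i)))) = algebraMap R Rj (Ideal.Quotient.mk J (X i))
      rw [hψ']
      show χ (ψ₀ (X i)) = _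
      simp only [ψ₀, aeval_X, map_mul, hy', T, hχ', χ₂, eval₂Hom_X', z, mul_assoc,
        Ring.inverse_mul_cancel _ hxj, mul_one]
  have hψχ : ψ.toRingHom.comp χ = RingHom.id L := by
    refine IsLocalization.ringHom_ext (Submonoid.powers (X () : MvPolynomial Unit B))
      (MvPolynomial.ringHom_ext (fun b => ?_) fun _ => ?_)
    · obtain ⟨F, rfl⟩ := Ideal.Quotient.mk_surjective b
      show ψ (χ (algebraMap _ L (C (Ideal.Quotient.mk _ F)))) = algebraMap _ L (C _)
      rw [hχ', ← hy]
      show ψ (eval₂Hom _ _ (C _)) = _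
      rw [eval₂Hom_C]
      show ψ (χ₀ F) = _
      refine (congrFun (congrArg DFunLike.coe (MvPolynomial.algHom_ext (f := ψ.comp χ₀) (g := aeval y) fun i => ?_)) F)
      show ψ (aeval z (X i)) = aeval y (X i)
      rw [aeval_X, aeval_X]
      apply hT.mul_right_cancel
      have hzi : z i * xj = algebraMap R Rj (Ideal.Quotient.mk J (X i)) := by
        simp only [z, mul_assoc, Ring.inverse_mul_cancel _ hxj, mul_one]
      calc ψ (z i) * T = ψ (z i) * ψ xj := congrArg _ ((hψ' _).trans hψj).symm
        _ = ψ (z i * xj) := (map_mul ψ _ _).symm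
        _ = ψ₀ (X i) := by rw [hzi, hψ']; rfl
        _ = y i * T := aeval_X _ i
    · show ψ (χ (algebraMap _ L (X ()))) = T
      rw [hχ']
      simp only [χ₂, eval₂Hom_X']
      exact (hψ' _).trans hψj
  let e : L ≃ₐ[k] Rj := (AlgEquiv.ofRingEquiv (R := k) (f := RingEquiv.ofRingHom ψ.toRingHom χ hψχ hχψ)
    fun a => ψ.commutes a).symm
  haveI : Algebra.Smooth B (MvPolynomial Unit B) := ⟨inferInstance, inferInstance⟩
  haveI : Algebra.Smooth k (MvPolynomial Unit B) := Algebra.Smooth.comp k B (MvPolynomial Unit B)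
  haveI : Algebra.Smooth (MvPolynomial Unit B) L := Algebra.Smooth.of_isLocalization_Away (X () : MvPolynomial Unit B)
  haveI : Algebra.Smooth k L := Algebra.Smooth.comp k (MvPolynomial Unit B) L
  haveI : Algebra.Smooth k Rj := Algebra.Smooth.of_equiv e
  have hdis : Disjoint (Submonoid.powers (Ideal.Quotient.mk J (X j) : R) : Set R) Q := by
    rwa [Ideal.disjoint_powers_iff_notMem_of_isPrime]
  let Q' := Q.map (algebraMap R Rj)
  haveI : Q'.IsPrime := IsLocalization.isPrime_of_isPrime_disjoint _ _ _ inferInstance hdis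
  haveI : Algebra.IsSmoothAt k Q' := inferInstance
  haveI := GrothLib.Serre.isRegularLocalRing_of_isSmoothAt (k := k) Q'
  have hcomap : Q'.comap (algebraMap R Rj) = Q :=
    IsLocalization.under_map_of_isPrime_disjoint _ _ inferInstance hdis
  have := IsLocalization.isLocalization_isLocalization_atPrime_isLocalization
    (M := Submonoid.powers (Ideal.Quotient.mk J (X j) : R)) (S := Rj) (Localization.AtPrime Q') Q'
  have hM : IsLocalization Q.primeCompl (Localization.AtPrime Q') := by
    suffices h : ∀ (P : Ideal R) (_ : P.IsPrime), Q'.comap (algebraMap R Rj) = P →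
        IsLocalization P.primeCompl (Localization.AtPrime Q') from h Q inferInstance hcomap
    intro P _ h
    subst h
    exact this
  exact IsRegularLocalRing.of_ringEquiv (IsLocalization.algEquiv Q.primeCompl
    (Localization.AtPrime Q') (Localization.AtPrime Q)).toRingEquiv

end GrothLib.CIGraded
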