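import Groth.Agent.Lib.NormalSerre.Basic
import Groth.Agent.Lib.CMFree.Params
import Groth.Agent.Lib.CMFree.Regular
import Groth.Agent.Lib.AffDom.Formula
import Groth.Agent.Lib.Depth.Reduce
import Groth.Agent.Lib.Depth.CM
import Mathlib

/-!
# Normality of the cone over a normal complete intersection
-/

set_option autoImplicit false
set_option linter.style.haveILetI false

universe u

open IsLocalRing RingTheory.Sequence MvPolynomial

attribute [local instance] MvPolynomial.gradedAlgebra

namespace GrothLib.CIGraded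

/-- The height of an ideal plus the dimension of the quotient is at most the dimension. -/
theorem ringKrullDim_quotient_add_le {A : Type u} [CommRing A] (I : Ideal A) (r N : ℕ)
    (hI : ∀ P : Ideal A, P.IsPrime → I ≤ P → (r : ℕ∞) ≤ P.height) (hN : ringKrullDim A = N) :
    ringKrullDim (A ⧸ I) + r ≤ ringKrullDim A := by
  rw [hN, ringKrullDim_quotient]
  have key : ∀ l : LTSeries (PrimeSpectrum.zeroLocus (I : Set A)), l.length + r ≤ N := fun l => by
    have h1 := AffDom.height_add_ringKrullDim_quotient_le l.head.1.asIdeal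
    have h2 : (l.length : ℕ∞) ≤ Order.coheight l.head.1 := by
      let l' : LTSeries (PrimeSpectrum A) := l.map Subtype.val (fun a b h => h)
      have : l'.head = l.head.1 := LTSeries.head_map _ _ _
      rw [← this]
      exact Order.length_le_coheight_head
    rw [AffDom.ringKrullDim_quotient_eq_coheight, hN, ← WithBot.coe_add] at h1
    have h3 := (add_le_add h2 (hI _ l.head.1.2 l.head.2)).trans
      (le_of_eq_of_le (add_comm _ _) (WithBot.coe_le_coe.mp (h1.trans (le_of_eq rfl))))
    exact_mod_cast h3
  rcases isEmpty_or_nonempty (PrimeSpectrum.zeroLocus (I : Set A)) with hE | hne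
  · rw [Order.krullDim_eq_bot, WithBot.bot_add]; exact bot_le
  have hle : Order.krullDim (PrimeSpectrum.zeroLocus (I : Set A)) ≤ ((N - r : ℕ) : WithBot ℕ∞) :=
    iSup_le fun l => by exact_mod_cast Nat.le_sub_of_add_le (key l)
  refine (add_le_add hle le_rfl).trans ?_
  have := key (RelSeries.singleton _ (Classical.arbitrary _))
  rw [RelSeries.singleton_length, zero_add] at this
  exact_mod_cast (Nat.sub_add_cancel this).le

/-- The kernel of a localisation of a surjection. -/
theorem ker_localRingHom {R S : Type u} [CommRing R] [CommRing S] (f : R →+* S)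
    (hf : Function.Surjective f) (P : Ideal S) [P.IsPrime] :
    RingHom.ker (Localization.localRingHom (P.comap f) P f rfl) =
      (RingHom.ker f).map (algebraMap R (Localization.AtPrime (P.comap f))) := by
  refine le_antisymm (fun z hz => ?_) (Ideal.map_le_iff_le_comap.mpr fun a ha => ?_)
  · obtain ⟨a, s, rfl⟩ := IsLocalization.exists_mk'_eq (P.comap f).primeCompl z
    rw [RingHom.mem_ker, Localization.localRingHom_mk', IsLocalization.mk'_eq_zero_iff] at hz
    obtain ⟨⟨t, ht⟩, hta⟩ := hz
    obtain ⟨t', rfl⟩ := hf t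
    rw [IsLocalization.mk'_mem_map_algebraMap_iff]
    exact ⟨t', ht, by rw [RingHom.mem_ker, map_mul]; exact hta⟩
  · rw [Ideal.mem_comap, RingHom.mem_ker, Localization.localRingHom_to_map, RingHom.mem_ker.mp ha, map_zero]

/-- Depth of a quotient of a regular local ring by elements dropping the dimension. -/
theorem exists_pair {R : Type u} [CommRing R] [IsRegularLocalRing R] (rs : List R) (N : ℕ)
    (hN : ringKrullDim R = N) (h2 : rs.length + 2 ≤ N) (hm : ∀ r ∈ rs, r ∈ maximalIdeal R)
    (hdim : ringKrullDim (R ⧸ Ideal.ofList rs) + rs.length ≤ ringKrullDim R)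
    (A : Type u) [CommRing A] [IsLocalRing A] [IsNoetherianRing A]
    (π : R →+* A) (hπ : Function.Surjective π) (hker : RingHom.ker π = Ideal.ofList rs) :
    ∃ x y : A, x ∈ maximalIdeal A ∧ y ∈ maximalIdeal A ∧ IsWeaklyRegular A [x, y] := by
  letI := π.toAlgebra
  have hne : Ideal.ofList rs ≠ ⊤ := ne_top_of_le_ne_top (maximalIdeal.isMaximal R).ne_top (Ideal.span_le.mpr hm)
  have hreg := GrothLib.CMFree.isRegular_of_ringKrullDim_quotient R rs hne hdim
  obtain ⟨l, hl, hlm, hlen⟩ := CMFree.exists_weaklyRegular_of_isRegularLocalRing R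
  rw [hN] at hlen
  have hlN : l.length = N := by exact_mod_cast hlen
  have hne' : maximalIdeal R • (⊤ : Submodule R R) ≠ ⊤ := by
    rw [smul_eq_mul, Ideal.mul_top]
    exact (maximalIdeal.isMaximal R).ne_top
  have hR : ((2 + rs.length : ℕ) : ℕ∞) ≤ LocCoh.idealDepth (maximalIdeal R) R :=
    le_trans (by exact_mod_cast (by omega : 2 + rs.length ≤ l.length))
      ((Depth.le_idealDepth_iff_exists _ hne' _).2 ⟨l, rfl, hlm, hl⟩)
  rw [Depth.idealDepth_ofList (maximalIdeal R) rs hm R hreg.toIsWeaklyRegular, Nat.cast_add,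
    ENat.add_le_add_iff_right (ENat.natCast_ne_top _)] at hR
  have hsurj : Function.Surjective (Algebra.linearMap R A) := hπ
  have hker' : LinearMap.ker (Algebra.linearMap R A) = Ideal.ofList rs • (⊤ : Submodule R R) := by
    rw [smul_eq_mul, Ideal.mul_top, ← hker]
    rfl
  let eA : (R ⧸ (Ideal.ofList rs • (⊤ : Submodule R R))) ≃ₗ[R] A :=
    (Submodule.quotEquivOfEq _ _ hker'.symm).trans ((Algebra.linearMap R A).quotKerEquivOfSurjective hsurj)
  haveI : Module.Finite R A := Module.Finite.equiv eA
  have hA : ((2 : ℕ) : ℕ∞) ≤ LocCoh.depth A A := by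
    rw [LocCoh.depth, ← IsLocalRing.map_maximalIdeal_of_surjective π hπ, show π = algebraMap R A from rfl,
      Depth.idealDepth_map_eq, ← Depth.idealDepth_eq_of_equiv (maximalIdeal R) eA]
    exact hR
  obtain ⟨ts, hts, htm, htr⟩ := (Depth.le_idealDepth_iff_exists (maximalIdeal A)
    (by rw [smul_eq_mul, Ideal.mul_top]; exact (maximalIdeal.isMaximal A).ne_top) 2).1 hA
  obtain ⟨x, y, rfl⟩ := List.length_eq_two.mp hts
  exact ⟨x, y, htm x (by simp), htm y (by simp), htr⟩

variable {k : Type u} [Field k] {σ : Type*} [Fintype σ]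

omit [Fintype σ] in
/-- An element with nonzero constant term acts injectively modulo a homogeneous ideal. -/
theorem mem_of_mul_mem_of_constantCoeff_ne_zero {J : Ideal (MvPolynomial σ k)}
    (hJ : J.IsHomogeneous (homogeneousSubmodule σ k)) {s g : MvPolynomial σ k}
    (hs : constantCoeff s ≠ 0) (h : s * g ∈ J) : g ∈ J := by
  have hu : C (constantCoeff s)⁻¹ * s - 1 ∈ idealOfVars σ k := by
    have : constantCoeff (C (constantCoeff s)⁻¹ * s - 1) = 0 := by simp [hs]
    rw [← pow_one (idealOfVars σ k), mem_pow_idealOfVars_iff']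
    intro m hm
    have : m = 0 := (Finsupp.degree_eq_zero_iff m).mp (by omega)
    subst this
    rwa [constantCoeff_eq] at *
  have hN : ∀ N : ℕ, g ∈ J ⊔ idealOfVars σ k ^ N := by
    intro N
    induction N with
    | zero => simp
    | succ N ih =>
      obtain ⟨j, hj, w, hw, hjw⟩ := Submodule.mem_sup.mp ih
      have : g = C (constantCoeff s)⁻¹ * (s * g) - (C (constantCoeff s)⁻¹ * s - 1) * j -
          (C (constantCoeff s)⁻¹ * s - 1) * w := by rw [← hjw]; ring
      rw [this]
      refine sub_mem (sub_mem ?_ ?_) ?_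
      · exact Submodule.mem_sup_left (J.mul_mem_left _ h)
      · exact Submodule.mem_sup_left (J.mul_mem_left _ hj)
      · exact Submodule.mem_sup_right (pow_succ' (idealOfVars σ k) N ▸ Ideal.mul_mem_mul hu hw)
  rw [← sum_homogeneousComponent g]
  refine sum_mem fun e _ => ?_
  obtain ⟨j, hj, w, hw, hjw⟩ := Submodule.mem_sup.mp (hN (e + 1))
  have hw0 : homogeneousComponent e w = 0 := by
    ext m
    rw [coeff_homogeneousComponent, coeff_zero]
    split_ifs with he
    · exact (mem_pow_idealOfVars_iff' _ _).mp hw m (by omega)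
    · rfl
  rw [← hjw, map_add, hw0, add_zero]
  exact homogeneousComponent_mem_of_mem hJ hj e

omit [Fintype σ] in
theorem constantCoeff_eq_zero_iff (s : MvPolynomial σ k) : constantCoeff s = 0 ↔ s ∈ idealOfVars σ k := by
  rw [← pow_one (idealOfVars σ k), mem_pow_idealOfVars_iff']
  refine ⟨fun h m hm => ?_, fun h => h 0 (by simp)⟩
  have : m = 0 := (Finsupp.degree_eq_zero_iff m).mp (by omega)
  subst this
  exact h

/-- The cone over a normal complete intersection is normal. -/
theorem isDomain_isIntegrallyClosed (n r : ℕ) (hr : r < n) (f : Fin r → MvPolynomial (Fin (n + 1)) k) (d : Fin r → ℕ)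
    (hf : ∀ i, (f i).IsHomogeneous (d i)) (hd : ∀ i, 0 < d i)
    (hJ : (Ideal.span (Set.range f)).height = r)
    (hnorm : ∀ (Q : Ideal (MvPolynomial (Fin (n + 1)) k ⧸ Ideal.span (Set.range f))) [Q.IsPrime],
      (∃ i, Ideal.Quotient.mk (Ideal.span (Set.range f)) (MvPolynomial.X i) ∉ Q) →
        IsDomain (Localization.AtPrime Q) ∧ IsIntegrallyClosed (Localization.AtPrime Q)) :
    IsDomain (MvPolynomial (Fin (n + 1)) k ⧸ Ideal.span (Set.range f)) ∧
      IsIntegrallyClosed (MvPolynomial (Fin (n + 1)) k ⧸ Ideal.span (Set.range f)) := by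
  let J := Ideal.span (Set.range f)
  have hJdef : J = Ideal.span (Set.range f) := rfl
  let S := MvPolynomial (Fin (n + 1)) k
  let R := S ⧸ J
  let m : Ideal S := RingHom.ker (constantCoeff (σ := Fin (n + 1)) (R := k))
  haveI hm : m.IsMaximal := RingHom.ker_isMaximal_of_surjective _ fun a => ⟨C a, constantCoeff_C _ a⟩
  have hmI : m = idealOfVars (Fin (n + 1)) k := Ideal.ext fun s => constantCoeff_eq_zero_iff s
  have hfm : ∀ i, f i ∈ m := fun i => (hf i).coeff_eq_zero (d := 0) (by simp only [map_zero]; exact (hd i).ne)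
  have hJm : J ≤ m := Ideal.span_le.mpr (Set.range_subset_iff.mpr hfm)
  let mR : Ideal R := m.map (Ideal.Quotient.mk J)
  have hcomap : mR.comap (Ideal.Quotient.mk J) = m := by
    rw [Ideal.comap_map_of_surjective _ Ideal.Quotient.mk_surjective, ← RingHom.ker_eq_comap_bot,
      Ideal.mk_ker, sup_eq_left.mpr hJm]
  haveI hmR : mR.IsMaximal := (Ideal.map_eq_top_or_isMaximal_of_surjective _ Ideal.Quotient.mk_surjective hm).resolve_left
    fun h => hm.ne_top (by rw [← hcomap, show mR = ⊤ from h, Ideal.comap_top])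
  have hmR' : mR.IsPrime := hmR.isPrime
  have hJhom : J.IsHomogeneous (homogeneousSubmodule (Fin (n + 1)) k) :=
    Ideal.homogeneous_span _ _ (by intro x hx; obtain ⟨i, rfl⟩ := Set.mem_range.mp hx; exact ⟨d i, (mem_homogeneousSubmodule _ _).mpr (hf i)⟩)
  have htor : ∀ t : R, t ∉ mR → ∀ a : R, t * a = 0 → a = 0 := by
    intro t ht a hta
    obtain ⟨s, rfl⟩ := Ideal.Quotient.mk_surjective t
    obtain ⟨g, rfl⟩ := Ideal.Quotient.mk_surjective a
    rw [← map_mul, Ideal.Quotient.eq_zero_iff_mem] at hta
    rw [Ideal.Quotient.eq_zero_iff_mem]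
    refine mem_of_mul_mem_of_constantCoeff_ne_zero hJhom (fun h0 => ht ?_) hta
    exact Ideal.mem_map_of_mem _ h0
  -- the vertex
  let p := mR.comap (Ideal.Quotient.mk J)
  let A := Localization.AtPrime p
  have hA : ringKrullDim A = ((n + 1 : ℕ) : WithBot ℕ∞) := by
    rw [IsLocalization.AtPrime.ringKrullDim_eq_height p A]
    haveI : IsDomain (S ⧸ p) := inferInstance
    have h := AffDom.height_add_ringKrullDim_quotient k S p
    have hfield : ringKrullDim (S ⧸ p) = 0 :=
      haveI : p.IsMaximal := by show Ideal.IsMaximal (mR.comap _); rw [hcomap]; exact hm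
      ringKrullDim_eq_zero_of_isField ((Ideal.Quotient.maximal_ideal_iff_isField_quotient p).mp inferInstance)
    rw [hfield, add_zero, MvPolynomial.ringKrullDim_of_isNoetherianRing, ringKrullDim_eq_zero_of_field] at h
    rw [h]
    simp
  let rs : List A := (List.ofFn f).map (algebraMap S A)
  have hrs : Ideal.ofList rs = J.map (algebraMap S A) := by
    rw [← Ideal.map_ofList]
    congr 1
    rw [hJdef]
    exact congrArg Ideal.span (Set.ext fun x => by simp [List.mem_ofFn])
  obtain ⟨x, y, hx, hy, hxy⟩ := exists_pair rs (n + 1) hA (by simp [rs]; omega)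
    (fun a ha => by
      obtain ⟨b, hb, rfl⟩ := List.mem_map.mp ha
      obtain ⟨i, rfl⟩ := List.mem_ofFn.mp hb
      rw [← Localization.AtPrime.map_eq_maximalIdeal]
      exact Ideal.mem_map_of_mem _ (show f i ∈ mR.comap _ by rw [hcomap]; exact hfm i))
    (by
      have hlen : rs.length = r := by simp [rs]
      rw [hrs, hlen]
      refine ringKrullDim_quotient_add_le _ r (n + 1) (fun P hP hle => ?_) hA
      haveI := hP
      have h1 : J ≤ P.comap (algebraMap S A) := Ideal.map_le_iff_le_comap.mp hle
      have h2 := (Ideal.height_mono h1).trans_eq (IsLocalization.height_under p.primeCompl P)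
      exact hJ ▸ h2)
    (Localization.AtPrime mR) (Localization.localRingHom p mR (Ideal.Quotient.mk J) rfl)
    (RingHom.surjective_localRingHom_of_surjective _ Ideal.Quotient.mk_surjective mR)
    (by rw [ker_localRingHom _ Ideal.Quotient.mk_surjective, Ideal.mk_ker, hrs])
  have hpunct : ∀ (Q : Ideal R) [Q.IsPrime], Q ≠ mR →
      IsDomain (Localization.AtPrime Q) ∧ IsIntegrallyClosed (Localization.AtPrime Q) := fun Q _ hQ => by
    refine hnorm Q ?_
    by_contra hc
    push Not at hc
    refine hQ (hmR.eq_of_le (Ideal.IsPrime.ne_top inferInstance) ?_).symm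
    show m.map _ ≤ Q
    rw [hmI, Ideal.map_span, Ideal.span_le, ← Set.range_comp]
    exact Set.range_subset_iff.mpr hc
  obtain ⟨hdom, hic⟩ := NormalSerre.isDomain_isIntegrallyClosed_of_pair x y hx hy hxy fun P _ hP => by
    let q := P.comap (algebraMap R (Localization.AtPrime mR))
    have hq : q ≠ mR := fun he => hP (by
      rw [← IsLocalization.map_comap mR.primeCompl _ P, ← Localization.AtPrime.map_eq_maximalIdeal]
      exact congrArg _ he)
    obtain ⟨h1, h2⟩ := hpunct q hq
    let e := IsLocalization.localizationLocalizationAtPrimeIsoLocalization mR.primeCompl P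
    exact ⟨e.symm.toRingEquiv.toMulEquiv.isDomain, by haveI := h2; exact IsIntegrallyClosed.of_equiv (R := Localization.AtPrime q) e.toRingEquiv⟩
  have hinj : Function.Injective (algebraMap R (Localization.AtPrime mR)) :=
    (injective_iff_map_eq_zero _).mpr fun a ha => by
      obtain ⟨⟨t, ht⟩, hta⟩ := (IsLocalization.map_eq_zero_iff mR.primeCompl _ a).mp ha
      exact htor t ht a hta
  haveI : IsDomain R := hinj.isDomain
  refine ⟨inferInstance, IsIntegrallyClosed.of_localization_maximal fun Q hQ => ?_⟩
  rcases eq_or_ne Q mR with rfl | hne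
  · exact hic
  · exact (hpunct Q hne).2

end GrothLib.CIGraded
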