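import Groth.Agent.Lib.CIGraded.Chart
import Groth.Agent.Lib.CIGraded.Normal
import Groth.Agent.Lib.RegLoc.Normal
import Mathlib

/-!
# Nonsingular complete intersections of prescribed degrees
-/

set_option autoImplicit false
set_option linter.style.haveILetI false

universe u

open MvPolynomial

noncomputable section

namespace GrothLib.CIGraded

variable {k : Type u} [Field k] {n : ℕ}

/-- The vertex of the cone has height `n + 1`. -/
theorem height_ker_constantCoeff :
    (RingHom.ker (constantCoeff (σ := Fin (n + 1)) (R := k))).height = ((n + 1 : ℕ) : ℕ∞) := by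
  set m := RingHom.ker (constantCoeff (σ := Fin (n + 1)) (R := k))
  haveI hm : m.IsMaximal := RingHom.ker_isMaximal_of_surjective _ fun a => ⟨C a, constantCoeff_C _ a⟩
  have h := AffDom.height_add_ringKrullDim_quotient k (MvPolynomial (Fin (n + 1)) k) m
  rw [ringKrullDim_eq_zero_of_isField ((Ideal.Quotient.maximal_ideal_iff_isField_quotient m).mp inferInstance),
    add_zero, MvPolynomial.ringKrullDim_of_isNoetherianRing, ringKrullDim_eq_zero_of_field, zero_add] at h
  simp only [Nat.card_eq_fintype_card, Fintype.card_fin] at h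
  exact_mod_cast h

/-- A prime of height at most `n` misses some variable. -/
theorem exists_X_not_mem (P : Ideal (MvPolynomial (Fin (n + 1)) k)) [P.IsPrime] {i : ℕ} (hi : i ≤ n)
    (hP : P.height ≤ i) : ∃ j, (X j : MvPolynomial (Fin (n + 1)) k) ∉ P := by
  by_contra hc
  push Not at hc
  have hle : RingHom.ker (constantCoeff (σ := Fin (n + 1)) (R := k)) ≤ P := fun s hs => by
    have : s ∈ idealOfVars (Fin (n + 1)) k := (constantCoeff_eq_zero_iff s).mp hs
    exact (Ideal.span_le.mpr (Set.range_subset_iff.mpr hc)) this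
  have := (height_ker_constantCoeff (k := k) (n := n)).symm.trans_le ((Ideal.height_mono hle).trans hP)
  have : n + 1 ≤ i := by exact_mod_cast this
  omega

/-- A general form avoids a given prime other than the vertex. -/
theorem exists_poly_form_not_mem (P : Ideal (MvPolynomial (Fin (n + 1)) k)) [P.IsPrime]
    (hP : ∃ j, (X j : MvPolynomial (Fin (n + 1)) k) ∉ P) (d : ℕ) :
    ∃ Q : MvPolynomial (Fin d → Fin (n + 1)) k, Q ≠ 0 ∧ ∀ c, eval c Q ≠ 0 → form c ∉ P := by
  classical
  obtain ⟨j, hj⟩ := hP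
  have hmono : mono (fun _ : Fin d => j) ∉ P := by
    intro h
    simp only [mono, Finset.prod_const] at h
    exact hj (Ideal.IsPrime.mem_of_pow_mem inferInstance _ h)
  let q := (Ideal.Quotient.mkₐ k P).toLinearMap
  have hq0 : q (mono fun _ : Fin d => j) ≠ 0 := fun h => hmono (Ideal.Quotient.eq_zero_iff_mem.mp h)
  obtain ⟨l, hl⟩ : ∃ l : Module.Dual k (MvPolynomial (Fin (n + 1)) k ⧸ P), l (q (mono fun _ : Fin d => j)) ≠ 0 := by
    by_contra hc
    push Not at hc
    exact hq0 ((Module.forall_dual_apply_eq_zero_iff k _).mp hc)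
  refine ⟨∑ t, C (l (q (mono t))) * X t, ?_, fun c hc hmem => hc ?_⟩
  · intro h
    apply hl
    have := congrArg (eval (Pi.single (fun _ : Fin d => j) 1)) h
    simp only [map_sum, map_mul, eval_C, eval_X, map_zero] at this
    rw [Finset.sum_eq_single (fun _ : Fin d => j)] at this
    · simpa using this
    · intro b _ hb; simp [hb]
    · simp
  · have : q (form c) = 0 := Ideal.Quotient.eq_zero_iff_mem.mpr hmem
    calc eval c (∑ t, C (l (q (mono t))) * X t) = l (q (form c)) := by
          simp [form, map_sum, mul_comm]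
      _ = 0 := by rw [this, map_zero]

/-- Adding an element outside the minimal primes raises the height by one. -/
theorem height_span_sup_eq_succ {R : Type u} [CommRing R] [IsNoetherianRing R] {i : ℕ} (f : Fin i → R) (g : R)
    (hf : (Ideal.span (Set.range f)).height = i)
    (hg : ∀ P ∈ (Ideal.span (Set.range f)).minimalPrimes, g ∉ P)
    (htop : Ideal.span (Set.range (Fin.snoc (α := fun _ => R) f g)) ≠ ⊤) :
    (Ideal.span (Set.range (Fin.snoc (α := fun _ => R) f g))).height = ((i + 1 : ℕ) : ℕ∞) := by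
  refine le_antisymm ?_ ?_
  · obtain ⟨P, hP⟩ := Ideal.nonempty_minimalPrimes htop
    haveI := hP.1.1
    refine (Ideal.height_mono hP.1.2).trans ((Ideal.height_le_card_of_mem_minimalPrimes_span (Set.finite_range _) hP).trans ?_)
    rw [← Set.image_univ]
    exact_mod_cast (Set.ncard_image_le Set.finite_univ).trans (by simp [Set.ncard_univ])
  · rw [Ideal.height_eq_inf_minimalPrimes (Ideal.span (Set.range (Fin.snoc (α := fun _ => R) f g)))]
    refine le_iInf₂ fun P hP => ?_
    haveI := hP.1.1
    have hle := hP.1.2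
    have hf' : Ideal.span (Set.range f) ≤ P :=
      le_trans (Ideal.span_mono (by rw [Fin.range_snoc]; exact Set.subset_insert _ _)) hle
    obtain ⟨P₀, hP₀, hP₀P⟩ := Ideal.exists_minimalPrimes_le hf'
    haveI := hP₀.1.1
    have hgP : g ∈ P := hle (Ideal.subset_span (by rw [Fin.range_snoc]; exact Set.mem_insert _ _))
    have hlt : P₀ < P := lt_of_le_of_ne hP₀P fun h => hg P₀ hP₀ (h ▸ hgP)
    have h1 : (i : ℕ∞) ≤ P₀.height := hf ▸ Ideal.height_mono hP₀.1.2
    push_cast
    exact le_trans (add_le_add h1 le_rfl) (Ideal.height_add_one_le_of_lt_of_isPrime hlt)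

theorem isRegularLocalRing_of_charts {ι : Type} (f : ι → MvPolynomial (Fin (n + 1)) k) (d : ι → ℕ)
    (hf : ∀ i, (f i).IsHomogeneous (d i)) (J : Ideal (MvPolynomial (Fin (n + 1)) k))
    (hJ : J = Ideal.span (Set.range f)) (hs : ∀ j, Algebra.Smooth k (Chart J j))
    (Q : Ideal (MvPolynomial (Fin (n + 1)) k ⧸ J)) [Q.IsPrime]
    (hQ : ∃ j, Ideal.Quotient.mk J (X j) ∉ Q) : IsRegularLocalRing (Localization.AtPrime Q) := by
  subst hJ
  obtain ⟨j, hj⟩ := hQ
  haveI := hs j
  exact isRegularLocalRing_of_smooth_chart f d hf j Q hj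

/-- General forms of prescribed degrees. -/
theorem exists_forms [IsAlgClosed k] {r : ℕ} (hr : r ≤ n) (d : Fin r → ℕ) (hd : ∀ a, 0 < d a) :
    ∀ i : ℕ, ∀ hi : i ≤ r, ∃ f : Fin i → MvPolynomial (Fin (n + 1)) k,
      (∀ a, (f a).IsHomogeneous (d (Fin.castLE hi a))) ∧
      (∀ a j, Algebra.Smooth k (Chart (Ideal.span {f a}) j)) ∧
      (∀ j, Algebra.Smooth k (Chart (Ideal.span (Set.range f)) j)) ∧
      (Ideal.span (Set.range f)).height = i := by
  classical
  intro i
  induction i with
  | zero =>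
    intro hi
    refine ⟨Fin.elim0, fun a => a.elim0, fun a => a.elim0, fun j => ?_, ?_⟩ <;>
      rw [Set.range_eq_empty, Ideal.span_empty]
    · exact smooth_chart_bot j
    · simp [Ideal.height_bot]
  | succ i ih =>
    intro hi
    obtain ⟨f, hhom, hind, hjoint, hht⟩ := ih (by omega)
    let J := Ideal.span (Set.range f)
    obtain ⟨e, he⟩ : ∃ e, d ⟨i, hi⟩ = e + 1 := ⟨d ⟨i, hi⟩ - 1, by have := hd ⟨i, hi⟩; omega⟩
    have hPJ : ∀ j, ∃ P : MvPolynomial (Fin (e + 1) → Fin (n + 1)) k, P ≠ 0 ∧
        ∀ c, eval c P ≠ 0 → Algebra.Smooth k (Chart (J ⊔ Ideal.span {form c}) j) := fun j => by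
      haveI := hjoint j
      exact exists_poly_smooth_chart J j e
    have hPbot : ∀ j, ∃ P : MvPolynomial (Fin (e + 1) → Fin (n + 1)) k, P ≠ 0 ∧
        ∀ c, eval c P ≠ 0 → Algebra.Smooth k (Chart ((⊥ : Ideal _) ⊔ Ideal.span {form c}) j) := fun j => by
      haveI := smooth_chart_bot (k := k) (n := n) j
      exact exists_poly_smooth_chart ⊥ j e
    have hfin : J.minimalPrimes.Finite := Ideal.finite_minimalPrimes_of_isNoetherianRing _ J
    have hPav : ∀ P : J.minimalPrimes, ∃ Q : MvPolynomial (Fin (e + 1) → Fin (n + 1)) k, Q ≠ 0 ∧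
        ∀ c, eval c Q ≠ 0 → form c ∉ P.1 := fun P => by
      haveI := P.2.1.1
      refine exists_poly_form_not_mem _ (exists_X_not_mem _ (i := i) (by omega) ?_) _
      refine (Ideal.height_le_card_of_mem_minimalPrimes_span (Set.finite_range f) P.2).trans ?_
      rw [← Set.image_univ]
      exact_mod_cast (Set.ncard_image_le Set.finite_univ).trans (by simp [Set.ncard_univ])
    choose PJ hPJ0 hPJ' using hPJ
    choose Pb hPb0 hPb' using hPbot
    choose Pa hPa0 hPa' using hPav
    haveI := hfin.fintype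
    have hne : (∏ j, PJ j) * (∏ j, Pb j) * (∏ P, Pa P) ≠ 0 :=
      mul_ne_zero (mul_ne_zero (Finset.prod_ne_zero_iff.mpr fun j _ => hPJ0 j)
        (Finset.prod_ne_zero_iff.mpr fun j _ => hPb0 j)) (Finset.prod_ne_zero_iff.mpr fun P _ => hPa0 P)
    obtain ⟨c, hc⟩ : ∃ c, eval c ((∏ j, PJ j) * (∏ j, Pb j) * (∏ P, Pa P)) ≠ 0 := by
      by_contra h
      push Not at h
      exact hne (MvPolynomial.funext fun c => by rw [h c, map_zero])
    simp only [map_mul, map_prod, mul_ne_zero_iff, Finset.prod_ne_zero_iff, Finset.mem_univ, true_implies] at hc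
    obtain ⟨⟨hcJ, hcb⟩, hca⟩ := hc
    have hr' : Set.range (Fin.snoc (α := fun _ => MvPolynomial (Fin (n + 1)) k) f (form c)) = insert (form c) (Set.range f) :=
      Fin.range_snoc ..
    refine ⟨Fin.snoc f (form c), fun a => ?_, fun a => ?_, fun j => ?_, ?_⟩
    · refine Fin.lastCases ?_ (fun b => ?_) a
      · rw [Fin.snoc_last, show d (Fin.castLE hi (Fin.last i)) = e + 1 from he]
        exact form_isHomogeneous c
      · rw [Fin.snoc_castSucc]
        exact hhom b
    · refine Fin.lastCases (fun j => ?_) (fun b => ?_) a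
      · rw [Fin.snoc_last]
        have := hPb' j c (hcb j)
        rwa [bot_sup_eq] at this
      · rw [Fin.snoc_castSucc]
        exact hind b
    · have := hPJ' j c (hcJ j)
      rwa [hr', Ideal.span_insert, sup_comm]
    · refine height_span_sup_eq_succ f (form c) hht (fun P hP => hPa' ⟨P, hP⟩ c (hca ⟨P, hP⟩)) ?_
      rw [hr']
      refine ne_top_of_le_ne_top (RingHom.ker_ne_top (constantCoeff (σ := Fin (n + 1)) (R := k))) ?_
      rw [Ideal.span_le]
      rintro x (rfl | ⟨b, rfl⟩)
      · exact (form_isHomogeneous c).coeff_eq_zero (d := 0) (by simp)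
      · exact (hhom b).coeff_eq_zero (d := 0) (by simp only [map_zero]; exact (hd _).ne)

/-- Existence of nonsingular complete intersections of prescribed degrees. -/
theorem exists_nonsingular_completeIntersection [IsAlgClosed k] (r : ℕ) (hr : r < n) (d : Fin r → ℕ)
    (hd : ∀ i, 0 < d i) :
    ∃ f : Fin r → MvPolynomial (Fin (n + 1)) k,
      (∀ i, (f i).IsHomogeneous (d i)) ∧
      (∀ (i : Fin r) (Q : Ideal (MvPolynomial (Fin (n + 1)) k ⧸ Ideal.span {f i})) [Q.IsPrime],
        (∃ j, Ideal.Quotient.mk (Ideal.span {f i}) (MvPolynomial.X j) ∉ Q) →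
          IsRegularLocalRing (Localization.AtPrime Q)) ∧
      IsDomain (MvPolynomial (Fin (n + 1)) k ⧸ Ideal.span (Set.range f)) ∧
      (Ideal.span (Set.range f)).height = r ∧
      ∀ (Q : Ideal (MvPolynomial (Fin (n + 1)) k ⧸ Ideal.span (Set.range f))) [Q.IsPrime],
        (∃ j, Ideal.Quotient.mk (Ideal.span (Set.range f)) (MvPolynomial.X j) ∉ Q) →
          IsRegularLocalRing (Localization.AtPrime Q) := by
  obtain ⟨f, hhom, hind, hjoint, hht⟩ := exists_forms (k := k) hr.le d hd r le_rfl
  simp only [Fin.castLE_refl] at hhom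
  have hreg : ∀ (Q : Ideal (MvPolynomial (Fin (n + 1)) k ⧸ Ideal.span (Set.range f))) [Q.IsPrime],
      (∃ j, Ideal.Quotient.mk (Ideal.span (Set.range f)) (MvPolynomial.X j) ∉ Q) →
        IsRegularLocalRing (Localization.AtPrime Q) := fun Q _ hQ =>
    isRegularLocalRing_of_charts f d hhom _ rfl hjoint Q hQ
  refine ⟨f, hhom, fun i Q _ hQ => isRegularLocalRing_of_charts (fun _ : Unit => f i) (fun _ => d i) (fun _ => hhom i) _
    (by rw [Set.range_const]) (hind i) Q hQ, ?_, hht, hreg⟩
  refine (isDomain_isIntegrallyClosed n r hr f d hhom hd hht fun Q _ hQ => ?_).1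
  haveI := hreg Q hQ
  exact ⟨GrothLib.CMFree.isDomain_of_isRegularLocalRing (Localization.AtPrime Q), GrothLib.RegLoc.isIntegrallyClosed_of_isRegularLocalRing (Localization.AtPrime Q)⟩

end GrothLib.CIGraded
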